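import Cfsg.Agent.Fi.XR2
import Cfsg.Agent.Cl.OQuad

/-! The stabiliser of a non-singular line in a seven-dimensional orthogonal space over the field with three elements. -/

set_option autoImplicit false

namespace Cfsg.Agent.FM

open Cfsg Subgroup Cfsg.Agent.Fi Cfsg.Agent.Cl Cfsg.Agent.Cl.Orth

/-- restriction to the orthogonal complement of a vector. -/
theorem exists_restrict {F V W H : Type*} [Field F] [AddCommGroup V] [Module F V] [AddCommGroup W] [Module F W]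
    [Group H] {Q : QuadraticForm F V} {Q' : QuadraticForm F W} (i : W →ₗ[F] V) {v : V}
    (hQ : ∀ w, Q (i w) = Q' w) (hi : LinearMap.ker i = ⊥) (hv : ∀ x, B Q x v = 0 ↔ ∃ w, i w = x) (ρ : H →* OG Q)
    (hρ : ∀ g, (ρ g).1 v = v ∨ (ρ g).1 v = -v) :
    ∃ ψ : H →* OG Q', ∀ g, g ∈ ψ.ker ↔ ∀ x, B Q x v = 0 → (ρ g).1 x = x := by
  obtain ⟨j, hj⟩ := i.exists_leftInverse_of_injective hi
  have ji : ∀ w, j (i w) = w := fun w => LinearMap.congr_fun hj w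
  have key : ∀ g w, i (j ((ρ g).1 (i w))) = (ρ g).1 (i w) := fun g w => by
    have := OG.B_apply (ρ g) (i w) v
    rw [(hv _).2 ⟨w, rfl⟩] at this
    obtain ⟨u, hu⟩ := (hv ((ρ g).1 (i w))).1 (by rcases hρ g with e | e <;> simpa [e] using this)
    rw [← hu, ji]
  let f : H → OG Q' := fun g => OG.mk' (j ∘ₗ (ρ g).1.toLinearMap ∘ₗ i) (j ∘ₗ (ρ g⁻¹).1.toLinearMap ∘ₗ i)
    (fun w => by simp only [LinearMap.comp_apply, LinearEquiv.coe_coe, key]; simp [ji])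
    (fun w => by simp only [LinearMap.comp_apply, LinearEquiv.coe_coe, key]; simp [ji])
    fun w => by simp only [LinearMap.comp_apply, LinearEquiv.coe_coe]; rw [← hQ, key, OG.Q_apply, hQ]
  have hf : ∀ g w, i ((f g).1 w) = (ρ g).1 (i w) := key
  have inj := LinearMap.ker_eq_bot.1 hi
  refine ⟨MonoidHom.mk' f fun a b => OG.ext' fun w => inj (by simp [hf]), fun g => ⟨fun h x hx => ?_, fun h => ?_⟩⟩
  · obtain ⟨w, rfl⟩ := (hv x).1 hx
    rw [← hf, show f g = 1 from h]; rfl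
  · exact OG.ext' fun w => inj ((hf g w).trans (h _ ((hv _).2 ⟨w, rfl⟩)))

def ql7 : List (ℕ × ℕ × ℕ) := [(0, 0, 1), (1, 1, 1), (2, 2, 1), (3, 3, 1), (4, 4, 1), (5, 5, 1), (6, 6, 2)]

theorem det7 : polarGramDet (⇑(qL (ZMod 3) 7 ql7)) = 1 := by
  rw [xr_gram (by decide), xr_det_perm 1 (fun i => if i = 6 then 1 else 2) (by decide +kernel)]; decide

/-- the embedding of the six-dimensional space. -/
def i6 : HV (ZMod 3) 2 (Fin 2 → ZMod 3) →ₗ[ZMod 3] Fin 7 → ZMod 3 where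
  toFun w := ![w.1 0 + w.2.1 0, w.1 1 + w.2.1 1, w.1 0 - w.2.1 0 + w.1 1 - w.2.1 1,
    w.1 0 - w.2.1 0 - w.1 1 + w.2.1 1, w.2.2 0, w.2.2 1, 0]
  map_add' a b := by ext k; fin_cases k <;> simp <;> ring
  map_smul' a b := by ext k; fin_cases k <;> simp <;> ring

theorem B7 (x : Fin 7 → ZMod 3) : B (qL (ZMod 3) 7 ql7) x (Pi.single 6 1) = x 6 := by
  have := Q_add (qL (ZMod 3) 7 ql7) x (Pi.single 6 1)
  have h3 : (3 : ZMod 3) = 0 := rfl
  simp [qL_apply, ql7, cf6] at this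
  rw [ql7]
  linear_combination -this + x 6 * h3

theorem i6_Q (w) : qL (ZMod 3) 7 ql7 (i6 w) = HS 2 (Q2 0 1) w := by
  simp only [qL_apply, ql7, cf6, i6, HS_apply, Q2_apply]
  simp
  generalize w.1 0 = a, w.1 1 = b, w.2.1 0 = c, w.2.1 1 = d, w.2.2 0 = e, w.2.2 1 = f
  revert a b c d e f; decide

theorem i6_ker : LinearMap.ker i6 = ⊥ := by
  refine LinearMap.ker_eq_bot'.2 fun ⟨p, q, r⟩ h => ?_
  have k : ∀ a b c d : ZMod 3, a + c = 0 → b + d = 0 → a - c + b - d = 0 → a - c - b + d = 0 →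
    a = 0 ∧ b = 0 ∧ c = 0 ∧ d = 0 := by decide
  obtain ⟨h0, h1, h2, h3⟩ := k _ _ _ _ (congrFun h 0) (congrFun h 1) (congrFun h 2) (congrFun h 3)
  refine Prod.ext ?_ (Prod.ext ?_ ?_) <;> ext j <;> fin_cases j
  exacts [h0, h1, h2, h3, congrFun h 4, congrFun h 5]

theorem i6_rng (x : Fin 7 → ZMod 3) : B (qL (ZMod 3) 7 ql7) x (Pi.single 6 1) = 0 ↔ ∃ w, i6 w = x := by
  rw [B7]
  refine ⟨fun h => ⟨(![x 2 + x 3 - x 0, x 2 - x 3 - x 1], ![-x 0 - x 2 - x 3, x 3 - x 1 - x 2], ![x 4, x 5]), ?_⟩,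
    fun ⟨w, e⟩ => e ▸ rfl⟩
  ext k; fin_cases k <;> simp [i6, h] <;> generalize x 0 = a, x 1 = b, x 2 = c, x 3 = d <;> revert a b c d <;> decide

theorem card_O6 : Nat.card (OG (HS 2 (Q2 (0 : ZMod 3) 1))) = 26127360 := by
  rw [card_OG_minus (by decide)]; simp [Finset.prod_range_succ]

end Cfsg.Agent.FM
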