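import Cfsg.Agent.FM.C24.N7
import Cfsg.Agent.FM.C24.E6
import Cfsg.Agent.FM.C24.Y7
import Cfsg.Agent.FM.RL
import Cfsg.Agent.FM.O8I
import Cfsg.Agent.FM.G2.L6
import Cfsg.Agent.Fi.Gh24
import Cfsg.Agent.Fi.Gp

/-! The subgroup `3 ^ 7 . O₇(3) : 2` of a group of type `M(24)`. -/

set_option autoImplicit false
set_option Elab.async false

namespace Cfsg.Agent.FM

open Cfsg Cfsg.Agent.GT Subgroup Mdl Cfsg.Agent.Fi Cfsg.Agent.Cl Cfsg.Agent.Cl.Orth

namespace F24

def gs7 : List (ℕ × ℕ) := [(0, 1), (2, 2084), (10, 1704), (37, 864), (13, 705), (46, 1728), (694, 2086), (3510, 1296), (3511, 1863), (31671, 9), (31672, 18), (248977, 1876)]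
noncomputable def rk7 (x : ℕ) : ℕ := Nat.land (Nat.shiftRight 0x50000030505000000050000040504000605000506000000000000060000050304000000060000060304000605000506000000000403000304000000000504000304000000000000000000000000060000090000060607000000080000070708000100000001000000000000050000060607000000060000050706000304000403000000000706000606000000000605000707000000000000000000000000050403000405000000000302000304000000000000000000000000060605000203000000000504000304000000000000000000000000040000000000000000040000000000000000050000070000060707000000060000050405000000050000040304000605000707000000000000050000060504000000040000050403000606000607000000000102000201000000000203000100000000000000000000000000000000040000040404000000040000050405000706000607000000000000040000050505000000050000040506000605000707000000000504000203000000000605000203000000000000000000000000050706000607000000000707000506000000000000000000000000040605000506000000000706000607000000000000000000000000000000000000000000040000000000000000050000030000000203000706000405000000000605000506000000000000000000000000040706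0006070000000006050005060000000000000000000000000100000000000000000500000000000000000600000400000101020003020005060000000002010004050000000000000000000000000505040003040000000004050002030000000000000000000000000500000000000000000400000000000000000300000700000607060000000000000000000400000000000000000500000500000606070000000000000000000300000000000000000300000700000808070000000500000504030000000500000605040007070005060000000000000400000506050000000500000405040007070005060000000000000500000405040000000400000304030007060006070000000003020005060000000002010004050000000000000000000000000500000500000404050000000600000504050007060006060000000000000500000504030000000500000605040007070005060000000001020003020000000001020002010000000000000000000000000007060006070000000006050005060000000000000000000000000106050007070000000007060006070000000000000000000000000400000000000000000500000000000000000400000100000303020000000500000606070000000600000507060003040004030000000000000700000808070000000600000907060001010001020000000007070005060000000006060006070000000000000000000000000500000600000504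0300000005000006030200060500050600000000000004000005040500000003000004050400060500050600000000040300040500000000030200030400000000000000000000000006040300040500000000030200050600000000000000000000000004040300030400000000050400030400000000000000000000000006000000000000000005000000000000000004000006000007070700030200050500000000040300040500000000000000000000000005050400020300000000060500020300000000000000000000000005000000000000000003000000000000000004000006000007060700060500050600000000070600060700000000000000000000000000060500050600000000050400060700000000000000000000000004000000000000000006000000000000000005000002000004020100000000000000000003000000000000000002000008000007070800000000000000000005000000000000000004000006000005070600000006000005040500000005000004030400060500070700000000000000000000000004000000000000000005000003000000020300000000000000000006000000000000000005000002000004020100000006000007070700000007000006070600020300050400000000000000000000000005000000000000000004000006000005070600000000000000000003000000000000000002000006000009070600000005000006050400000004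000005040300060600060700000000000005000004050400000006000005040300070600040500000000000004000004040400000004000005040500070600060700000000030200050500000000040300040500000000000000000000000005000000000000000002000000000000000003000009000006060700000000000000000004000000000000000005000005000006060700000005000004040500000006000005040500070600060600000000000000000000000005000000000000000006000004000001010200000000000000000005000000000000000004000001000003030200000006000007060700000007000006070700040500030200000000000005000004050400000004000003040300070600060700000000000006000006030400000005000005040500050400060700000000050400030400000000040500020300000000000000000000000005000004000005040500000003000004050400060500050600000000000005000004050600000004000003040500070600060700000000060500020300000000050400030400000000000000000000000004000004000005050400000004000005060500070600060700000000000005000003050500000005000004050400060500050600000000040300040500000000030200050600000000000000000000000004070600060600000000060500070700000000000000000000000005070700050600000000060600060700000000000000000000000005000000000000000000000000000000000000000002000002010000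 (Nat.mul 8 x)) 255
def y7 : Ex := .ps [1, 1176, 4869, 6737]
def t7 : Ex := .ps [1, 4869]
def u7 : Ex := .ps [35725, 71441, 4015, 30922, 1018, 4977, 31569, 1, 3522, 25, 38, 37, 105, 3511, 3510]
noncomputable def Z7 : ℕ := nth C24.N7.Zs 0 0

theorem cov7 : (cd.ltL [] && cd.allFix C24.N7.As [] && cd.cover ⟨[], [], []⟩ .all 0 [[0, 722, 221475]] C24.N7.As
    [1, 2, 3, 4, 5, 10, 9, 6, 7, 8, 0, 1, 4, 2, 7, 6, 1, 0, 6, 3, 2, 11, 2, 7, 4, 9, 0, 1, 8, 3, 5, 6, 4, 2, 11, 0, 4, 1,
      2, 7, 1, 3]) = true := by decide +kernel
theorem covZ : (cd.ltL [] && cd.allFix C24.N7.As [] && cd.cover ⟨[], [], C24.N7.Zs⟩ (.env 0) 0 [[0]] C24.N7.As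
    [1, 6, 0, 2, 4, 3, 5, 1, 2, 4, 0, 1, 11, 7, 0, 4, 8, 1, 2, 3, 11, 0, 4, 1]) = true := by decide +kernel

variable {G : Type*} [Group G] {D : Set G} (M : Mdl G D cd)

/-- the group generated by the normalising transpositions. -/
def H7 : Subgroup G := closure (M.pts (lmap Prod.fst gs7))

theorem lt7 : cd.ltL (lmap Prod.fst gs7) = true := by decide +kernel

theorem As_H7 : ∀ a ∈ C24.N7.As, M.ev a ∈ H7 M := fun a ha => by
  have h : gall C24.N7.As (fun a => (p1 (lmap Prod.fst gs7)).any (cd.eqE a)) = true := by decide +kernel
  obtain ⟨b, hb, e⟩ := List.any_eq_true.1 ((gall_iff _ _).1 h a ha)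
  exact M.eq_of_eqE e ▸ M.p1_mem lt7 b hb

theorem Z_H7 : ∀ p < cd.n, Z7.testBit p = true → M.pt p ∈ H7 M := fun p hp h => by
  obtain ⟨g, hg, r, hr, h1, rfl⟩ := cover_reps (As_H7 M) covZ hp h
  rw [M.pt_ac _ h1, List.mem_singleton.1 hr]
  exact mul_mem (mul_mem hg.1 (subset_closure ⟨0, by decide, rfl⟩)) (inv_mem hg.1)

theorem norm_le_H7 (h1 : H7 M ≤ N[M.spn C24.E6.As 7]) (h2 : IsMulCommutative (M.spn C24.E6.As 7)) :
    N[M.spn C24.E6.As 7] ≤ H7 M := by
  have eZ : C24.N7.Zs = [Z7] := rfl
  have k : ∀ r < cd.n, cd.commE ((Ex.ps [r]).cj (.ps [0, 914])) (.ps [697, 144]) = false →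
      M.pt r ∉ N[M.spn C24.E6.As 7] := fun r hr h hn => by
    have m : ∀ a ∈ C24.E6.As, M.ev a ∈ M.spn C24.E6.As 7 := fun a => M.mem_spn
    refine M.not_commute_of_commE h ?_
    rw [ev_cj, M.ev_ps1 hr]
    exact le_centralizer _ (m _ (by simp [C24.E6.As])) _ (conj_mem_of_mem_norm hn (m _ (by simp [C24.E6.As])))
  have hZ : ∀ p < cd.n, Z7.testBit p = true ↔ M.pt p ∈ N[M.spn C24.E6.As 7] := fun p hp =>
    ⟨fun h => h1 (Z_H7 M p hp h), fun h => by
      obtain ⟨g, hg, r, hr, h3, rfl⟩ := cover_reps (mem_inf_of (C24.N7.gens_CS M) (As_H7 M)) cov7 hp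
        (show (ones cd.n).testBit p = true by simpa using hp)
      rw [M.pt_ac _ h3, mul_mem_cancel_right (inv_mem (h1 hg.1.2)), mul_mem_cancel_left (h1 hg.1.2)] at h
      simp only [List.mem_cons, List.not_mem_nil, or_false] at hr
      rcases hr with rfl | rfl | rfl
      · rw [hg.1.1.2 Z7 (eZ ▸ List.mem_cons_self) 0 h3]; decide +kernel
      · exact absurd h (k _ h3 (by decide +kernel))
      · exact absurd h (k _ h3 (by decide +kernel))⟩
  intro n hn
  refine (C24.N7.res M (As_H7 M)).1 ⟨⟨fun _ h => absurd h List.not_mem_nil, fun Z h => ?_⟩, by simp⟩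
  rw [eZ, List.mem_singleton] at h
  subst h
  exact mapS_of_iff (Q := (· ∈ N[M.spn C24.E6.As 7])) hZ fun y _ => by
    rw [mul_mem_cancel_right (inv_mem hn), mul_mem_cancel_left hn]

variable [Finite G]

theorem seven_local : ∃ A : Subgroup G, IsElementaryAbelian 3 A ∧ Nat.card A = 3 ^ 7 ∧ IsDSubgroup D N[A] ∧
    (∃ _ : (A.subgroupOf N[A]).Normal, IsReflectionGroupModThree (N[A] ⧸ A.subgroupOf N[A]) 7 1 1) ∧
    zpowers (M.ev y7) ≤ A ∧ N[zpowers (M.ev y7)] ≤ N[A] ∧ A ≤ N[zpowers (M.ev y7)] ∧
    ∃ _ : (A.subgroupOf N[zpowers (M.ev y7)]).Normal, Nonempty (N[zpowers (M.ev y7)] ⧸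
      A.subgroupOf N[zpowers (M.ev y7)] ≃* isometryGroup (ZMod 3) (quadFormMinus 2 (ZMod 3) 0 1)) := by
  obtain ⟨π, hs, he⟩ := basChk_spec M (n := 7) (es := C24.E6.As) (qs := [0, 697, 31674, 708, 4328, 4647, 1])
    (by decide +kernel)
  obtain ⟨a0, hρ⟩ := refl_local M (m := 2) (k := 1) (l := ql7) (gs := gs7) (rk := rk7) hs he (by decide)
    (by decide) (by decide) (by decide +kernel) (by decide +kernel) (H := H7 M) rfl
  have hc := hs.elem.1.1
  have hH : H7 M = N[M.spn C24.E6.As 7] := le_antisymm a0 (norm_le_H7 M a0 hc)
  rw [hH] at hρ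
  obtain ⟨ρ, a1, a2, a3⟩ := hρ
  have hE : ∀ g : G, (∀ i : Fin 7, i ≠ 6 → Commute g (M.ev (nth C24.E6.As .one i))) → g ∈ M.spn C24.E6.As 7 :=
    fun g h => (C24.E6.res M fun a ha => M.mem_spn ha).1 ⟨⟨by
      simp only [C24.E6.Xs, List.forall_mem_cons]
      exact ⟨h 0 (by decide), h 1 (by decide), h 2 (by decide), h 3 (by decide), h 4 (by decide), h 5 (by decide),
        by simp⟩, fun _ h => absurd h List.not_mem_nil⟩, by simp⟩
  obtain ⟨hn, ⟨e⟩⟩ := quot_of_rep ρ a1 a3 (fun g hg => hE g fun i _ =>
    (mem_centralizer_iff.1 hg.2 _ (he i).1).symm) hc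
  have hy : M.ev y7 ∈ M.spn C24.E6.As 7 := (he 6).1
  have py : π (M.ev y7) = Pi.single 6 1 := (he 6).2
  have i3 : inv3 cd y7 t7 = true := by decide +kernel
  have n2 := (g8_N3 M (As := C24.Y7.As) i3 (C24.Y7.gens_CS M) fun K hK => C24.Y7.res M hK).2.2
  simp only [inv3, Bool.and_eq_true, Bool.not_eq_true'] at i3
  have b1 : N[zpowers (M.ev y7)] ≤ N[M.spn C24.E6.As 7] := hH ▸
    norm_le_of_gen (g := M.ev t7) (r := 2) (M.orderOf_ev Nat.prime_three i3.1.1 i3.1.2) (M.ne_of_eqE i3.1.2)
      (mul_inv_eq_iff_eq_mul.2 (M.eq_of_eqE i3.2)) (by decide)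
      (psIn_spec (Gs := [t7]) (by decide +kernel) (Z_H7 M) _ List.mem_cons_self)
      fun g hg => (C24.Y7.res M (psIn_spec (by decide +kernel) (Z_H7 M))).1 ⟨(CS_one y7).ge hg, by simp⟩
  have b2 : M.spn C24.E6.As 7 ≤ N[zpowers (M.ev y7)] := fun a ha => cent_le_norm _ (by
    rw [cent_zpowers]; exact mem_cent1.2 (le_centralizer _ hy _ ha))
  obtain ⟨ψ, hψ⟩ := exists_restrict i6 i6_Q i6_ker i6_rng (ρ.comp (inclusion b1)) fun g => by
    obtain ⟨k, hk⟩ := PG.exists_nat_pow_of_mem_zpowers (conj_mem_of_mem_norm g.2 (mem_zpowers _))
    have h1 := a2 (inclusion b1 g) _ hy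
    have h2 := OG.apply_ne_zero (ρ (inclusion b1 g)) (v := Pi.single 6 1) (by simp)
    rw [coe_inclusion, hk, hs.pow hy, py, ← Nat.cast_smul_eq_nsmul (ZMod 3)] at h1
    rw [MonoidHom.comp_apply, h1]
    rw [h1] at h2
    revert h2
    generalize (k : ZMod 3) = c
    revert c; decide
  have b3 : ∀ g, g ∈ ψ.ker ↔ (g : G) ∈ M.spn C24.E6.As 7 := fun g => (hψ g).trans
    ⟨fun h => hE g fun i hi => mul_inv_eq_iff_eq_mul.1 (hs.inj (conj_mem_of_mem_norm (b1 g.2) (he i).1) (he i).1 (by
      rw [← coe_inclusion b1, ← a2 _ _ (he i).1, (he i).2]
      exact h _ (by rw [B7, Pi.single_eq_of_ne' hi]))),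
    fun h x _ => by
      rw [MonoidHom.comp_apply, MonoidHom.mem_ker.1 ((a3 (inclusion b1 g)).2 (le_centralizer _ h))]; rfl⟩
  have : Finite (OG (HS 2 (Q2 (0 : ZMod 3) 1))) := Nat.finite_of_card_ne_zero (by rw [card_O6]; decide)
  have b4 := (g8_surj_of_card ψ (k := 3 ^ 7) (by rw [n2, card_O6]; rfl) (by
    rw [show ψ.ker = (M.spn C24.E6.As 7).subgroupOf _ from Subgroup.ext b3,
      Nat.card_congr (subgroupOfEquivOfLe b2).toEquiv, hs.elem.2])).1
  refine ⟨_, hs.elem.1, hs.elem.2, le_antisymm ((closure_le _).2 fun _ h => h.2) (hH.ge.trans (closure_mono ?_)),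
    ⟨hn, xr_refl det7 (by decide) e⟩, zpowers_le.2 hy, b1, b2,
    g8_quot ((oMinus 2 0 1).symm.toMonoidHom.comp ψ) ((oMinus 2 0 1).symm.surjective.comp b4) fun g => by
      rw [← b3]; simp⟩
  rintro _ ⟨p, hp, rfl⟩
  exact ⟨M.mem p (ltL_spec lt7 p hp), a0 (subset_closure ⟨p, hp, rfl⟩)⟩

include M in
theorem wlog_y7 (hG : Nat.card G = 2 ^ 22 * 3 ^ 16 * 5 ^ 2 * 7 ^ 3 * 11 * 13 * 17 * 23 * 29) {Y : Subgroup G}
    (hY : Nat.card Y = 3) (hw : commutingWidth (D ∩ (C[Y] : Set G)) = 6) :
    ∃ N : Mdl G D cd, Y = zpowers (N.ev y7) := by
  obtain ⟨x, hx, rfl⟩ := g8_zpowers_of_card Nat.prime_three hY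
  obtain ⟨g, rfl⟩ := isConj_iff.1 (g8_conjW24 M hG (g8_rep24 M 1).1 hx ((g8_rep24 M 1).2.1.trans hw.symm))
  refine ⟨M.conj (g * M.ev u7), ?_⟩
  rw [conj_ev, ← M.eq_of_eqE (a := u7.cj y7) (by decide +kernel), ev_cj]
  congr 1; group

end F24

end Cfsg.Agent.FM
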